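import Groth.Agent.L16.UnipRank.Mono
import Mathlib.RingTheory.Localization.FractionRing
import Mathlib.RingTheory.DedekindDomain.Basic

/-!
Over an integral base: a homomorphism which is an isomorphism on the generic fibre.
-/

set_option autoImplicit false
set_option backward.isDefEq.respectTransparency.types false
set_option linter.style.haveILetI false

universe u

open CategoryTheory CategoryTheory.Limits MonoidalCategory CartesianMonoidalCategory MonObj AlgebraicGeometry

noncomputable section

namespace Groth.L16.UnipRank

variable {R K : Type u} [CommRing R] [IsDomain R] [Field K] [Algebra R K] [IsFractionRing R K]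

omit [IsDomain R] in
/-- An injective map from a domain to a field factors through the fraction field. -/
theorem exists_factor_of_injective (κ : Type u) [Field κ] (ψ : R →+* κ) (hψ : Function.Injective ψ) :
    ∃ a : Spec (CommRingCat.of κ) ⟶ Spec (CommRingCat.of K),
      a ≫ Spec.map (CommRingCat.ofHom (algebraMap R K)) = Spec.map (CommRingCat.ofHom ψ) :=
  ⟨Spec.map (CommRingCat.ofHom (IsFractionRing.lift (K := K) hψ)), by
    rw [← Spec.map_comp]
    congr 1
    exact CommRingCat.hom_ext (RingHom.ext fun x => IsFractionRing.lift_algebraMap hψ x)⟩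

/-- The residue field of the generic point maps to the fraction field. -/
theorem exists_generic_factor : ∃ (t : Spec (CommRingCat.of R)) (a : Spec ((Spec (CommRingCat.of R)).residueField t) ⟶
    Spec (CommRingCat.of K)), (∀ x, t ⤳ x) ∧
    a ≫ Spec.map (CommRingCat.ofHom (algebraMap R K)) = (Spec (CommRingCat.of R)).fromSpecResidueField t := by
  let t : Spec (CommRingCat.of R) := (⊥ : PrimeSpectrum R)
  let ψ : CommRingCat.of R ⟶ (Spec (CommRingCat.of R)).residueField t := Spec.preimage ((Spec (CommRingCat.of R)).fromSpecResidueField t)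
  have hψ : Function.Injective ψ.hom := by
    rw [RingHom.injective_iff_ker_eq_bot]
    have h : (Spec.map ψ) (IsLocalRing.closedPoint ((Spec (CommRingCat.of R)).residueField t)) = t := by
      rw [Spec.map_preimage]
      exact Scheme.fromSpecResidueField_apply _ _
    have h' := congrArg PrimeSpectrum.asIdeal h
    change Ideal.comap ψ.hom (IsLocalRing.maximalIdeal _) = ⊥ at h'
    rwa [IsLocalRing.maximalIdeal_eq_bot, ← RingHom.ker_eq_comap_bot] at h'
  obtain ⟨a, ha⟩ := exists_factor_of_injective (K := K) _ ψ.hom hψ
  exact ⟨t, a, fun x => (PrimeSpectrum.le_iff_specializes _ _).1 bot_le, ha.trans (Spec.map_preimage _)⟩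

variable (G N : Over (Spec (CommRingCat.of R))) [GrpObj G] [GrpObj N] [Smooth G.hom] [IsSeparated G.hom]

include K in
/-- A model of an abelian variety is commutative. -/
theorem isCommMonObj_of_generic
    [IsProper ((Over.pullback (Spec.map (CommRingCat.ofHom (algebraMap R K)))).obj N).hom]
    [GeometricallyIntegral ((Over.pullback (Spec.map (CommRingCat.ofHom (algebraMap R K)))).obj N).hom]
    (u : G ⟶ N) [IsMonHom u] [IsIso ((Over.pullback (Spec.map (CommRingCat.ofHom (algebraMap R K)))).map u)] :
    IsCommMonObj G := by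
  let g := Spec.map (CommRingCat.ofHom (algebraMap R K))
  let F := Over.pullback g
  haveI : IsCommMonObj (F.obj N) := isCommMonObj_of_isProper_of_geometricallyIntegral (F.obj N)
  haveI : IsMonHom (F.map u) := Functor.map.instIsMonHom (F := F) (f := u)
  haveI : IsCommMonObj (Red.bc g G) := Groth.L15.TorsLift.isCommMonObj_of_mono (F.map u)
  obtain ⟨e', he'⟩ := exists_factor_of_injective (K := K) (FractionRing R) (algebraMap R (FractionRing R))
    (IsFractionRing.injective R (FractionRing R))
  haveI : Flat (G ⊗ G).hom := inferInstanceAs (Flat (pullback.fst G.hom G.hom ≫ G.hom))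
  constructor
  refine Groth.Agent.NeronL.eq_of_genericFibre R (G ⊗ G) G _ _ ?_
  let jg := Groth.L25.NilAction.toBase (Neron.genPt R) (𝟙 ((Neron.genericFibre R).obj (G ⊗ G)))
  have hjg : ∀ p q : Over.mk (((Neron.genericFibre R).obj (G ⊗ G)).hom ≫ Neron.genPt R) ⟶ G, p * q = q * p := by
    intro p q
    have hf : Neron.genPt R = e' ≫ g := he'.symm
    let b : ((Neron.genericFibre R).obj (G ⊗ G)).left ⟶ Spec (CommRingCat.of K) :=
      ((Neron.genericFibre R).obj (G ⊗ G)).hom ≫ e'
    have hb : ((Neron.genericFibre R).obj (G ⊗ G)).hom ≫ Neron.genPt R = b ≫ g := by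
      rw [hf]; exact (Category.assoc _ _ _).symm
    have key : ∀ (f : ((Neron.genericFibre R).obj (G ⊗ G)).left ⟶ Spec (CommRingCat.of R)), f = b ≫ g →
        ∀ p q : Over.mk f ⟶ G, p * q = q * p := by
      rintro f rfl p q
      rw [← Groth.L25.NilAction.toBase_ofBase g (Y := Over.mk b) p,
        ← Groth.L25.NilAction.toBase_ofBase g (Y := Over.mk b) q]
      exact (Groth.L25.NilAction.toBase_mul g (Y := Over.mk b) _ _).symm.trans
        ((congrArg (Groth.L25.NilAction.toBase g) (mul_comm _ _)).trans
          (Groth.L25.NilAction.toBase_mul g (Y := Over.mk b) _ _))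
    exact key _ hb p q
  have h0 : jg ≫ ((β_ G G).hom ≫ μ[G]) = jg ≫ μ[G] := by
    have h1 : (β_ G G).hom ≫ μ[G] = snd G G * fst G G := by
      rw [Hom.mul_def]; congr 1
    have h2 : μ[G] = fst G G * snd G G := by
      rw [Hom.mul_def, lift_fst_snd, Category.id_comp]
    rw [h1]
    conv_rhs => rw [h2]
    rw [MonObj.comp_mul, MonObj.comp_mul]
    exact hjg _ _
  refine Groth.L08.Borel.toBase_injective (Neron.genPt R) _ _ ?_
  rw [← Category.id_comp ((Neron.genericFibre R).map ((β_ G G).hom ≫ μ[G])),
    ← Category.id_comp ((Neron.genericFibre R).map μ[G])]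
  exact (Groth.L08.Borel.toBase_map' _ _ _).trans (h0.trans (Groth.L08.Borel.toBase_map' _ _ _).symm)

include K in
/-- Isomorphic on the generic fibre and unipotent rank zero everywhere gives an open immersion. -/
theorem isOpenImmersion_of_generic [QuasiCompact G.hom] [Smooth N.hom]
    [IsProper ((Over.pullback (Spec.map (CommRingCat.ofHom (algebraMap R K)))).obj N).hom]
    [GeometricallyIntegral ((Over.pullback (Spec.map (CommRingCat.ofHom (algebraMap R K)))).obj N).hom]
    (u : G ⟶ N) [IsMonHom u] [IsIso ((Over.pullback (Spec.map (CommRingCat.ofHom (algebraMap R K)))).map u)]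
    (hG : SGA7.FibresUnipotentRankZero G) : IsOpenImmersion u.left := by
  haveI := isCommMonObj_of_generic (K := K) G N u
  obtain ⟨t, a, ht, ha⟩ := exists_generic_factor (R := R) (K := K)
  let g := Spec.map (CommRingCat.ofHom (algebraMap R K))
  let res := (Spec (CommRingCat.of R)).fromSpecResidueField t
  haveI : IsIso ((Over.pullback g).map u) := ‹_›
  haveI hiso : IsIso ((Over.pullback res).map u) := by
    haveI : IsIso ((Over.pullback (a ≫ g)).map u) := by
      rw [NatIso.isIso_map_iff (Over.pullbackComp a g) u]
      exact inferInstanceAs (IsIso ((Over.pullback a).map ((Over.pullback g).map u)))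
    rw [show res = a ≫ g from ha.symm]
    infer_instance
  haveI : IsIso ((Over.pullback res).map u).left := inferInstanceAs (IsIso ((Over.forget _).map ((Over.pullback res).map u)))
  have hisog : SGA7.IsIsogenyOver (SGA7.fibreHom t u) := by
    refine ⟨inferInstanceAs (Surjective ((Over.pullback res).map u).left), fun M i sq => ?_⟩
    haveI : IsIso (SGA7.fibreHom t u) := hiso
    haveI : IsIso (toUnit M) := sq.isIso_snd_of_isIso
    haveI : IsIso (toUnit M).left := inferInstanceAs (IsIso ((Over.forget _).map (toUnit M)))
    rw [← Over.w (toUnit M)]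
    show IsFinite ((toUnit M).left ≫ 𝟙 _)
    infer_instance
  haveI : Mono ((Over.pullback res).map u) := inferInstance
  have hfib : ∀ s, IsOpenImmersion ((Over.pullback ((Spec (CommRingCat.of R)).fromSpecResidueField s)).map u).left := by
    intro s
    obtain ⟨U, hsU, hW, -⟩ := exists_nhd u s t (ht s) (hG s) hisog
    obtain ⟨-, hf⟩ := fibre_finite_flat u s t (ht s) (hG s) hisog
    haveI := mono_fibre_of_generization u U hW s t (ht s) hsU
    exact isOpenImmersion_fibre u s hf
  have h := isOpenImmersion_preimage u ⊤ fun s _ => hfib s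
  have he : u.left = (Scheme.topIso G.left).inv ≫ (G.hom ⁻¹ᵁ (⊤ : (Spec (CommRingCat.of R)).Opens)).ι ≫ u.left := by
    rw [← Category.assoc]
    exact (congrArg (· ≫ u.left) (Scheme.topIso G.left).inv_hom_id).trans (Category.id_comp _) |>.symm
  rw [he]
  exact @IsOpenImmersion.comp _ _ _ _ _ inferInstance h

end Groth.L16.UnipRank
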