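import Groth.Agent.L16.UnipRank.PowEtale
import Groth.Agent.L16.SerreLemma.Semiab
import Groth.Agent.L19.SpecSub.SabTorsion
import Groth.Agent.L26.AV.DimQF
import Groth.Agent.L08.Borel.NormOpen

/-!
Over a field: subgroups without small torsion of a group without additive subgroups are finite, and
finite homomorphisms which do not lower the dimension into smooth groups are flat.
-/

set_option autoImplicit false
set_option backward.isDefEq.respectTransparency.types false
set_option linter.style.haveILetI false

universe u

open CategoryTheory CategoryTheory.Limits MonoidalCategory CartesianMonoidalCategory MonObj AlgebraicGeometry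

noncomputable section

namespace Groth.L16.UnipRank

variable {k : Type u} [Field k]

/-- A subgroup without `ℓ`-torsion of a group without additive subgroups is finite. -/
theorem isFinite_of_noTorsion [IsAlgClosed k] {G N : Over (Spec (CommRingCat.of k))} [GrpObj G] [IsCommMonObj G]
    [LocallyOfFiniteType G.hom] [QuasiCompact G.hom]
    (hG : ∀ j : Red.Ga (Spec (CommRingCat.of k)) ⟶ G, IsMonHom j → IsClosedImmersion j.left → False)
    [GrpObj N] (i : N ⟶ G) [IsMonHom i] [IsClosedImmersion i.left] {ℓ : ℕ} (hℓ : 2 ≤ ℓ) (hℓk : (ℓ : k) ≠ 0)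
    (hN : ∀ x : Groth.Agent.AV.Isogeny.geomPt k k ⟶ N, x ^ ℓ = 1 → x = 1) : IsFinite N.hom := by
  haveI : LocallyOfFiniteType N.hom := by rw [← Over.w i]; infer_instance
  haveI : QuasiCompact N.hom := by rw [← Over.w i]; infer_instance
  obtain ⟨C, gC, R, gR, c, j, hc, hcc, hj, hjc, -, -, hRs, hRc, hRd⟩ := Groth.L19.SpecSub.exists_idComp N
  haveI := hc; haveI := hcc; haveI := hj; haveI := hjc; haveI := hRs; haveI := hRc
  haveI : IsClosedImmersion (j ≫ c).left := by rw [Over.comp_left]; infer_instance
  haveI : IsClosedImmersion ((j ≫ c) ≫ i).left := by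
    show IsClosedImmersion ((j ≫ c).left ≫ i.left)
    infer_instance
  haveI : Mono (j ≫ c) := Over.mono_of_mono_left (j ≫ c)
  haveI : Mono ((j ≫ c) ≫ i) := Over.mono_of_mono_left ((j ≫ c) ≫ i)
  haveI : QuasiCompact R.hom := by rw [← Over.w (j ≫ c)]; infer_instance
  haveI : LocallyOfFiniteType R.hom := inferInstance
  haveI : IsCommMonObj R := Groth.L15.TorsLift.isCommMonObj_of_mono ((j ≫ c) ≫ i)
  haveI := Groth.L08.AbelianGrp.isSeparated R
  have hR : Groth.L19.SpecSub.IsSemiab R := Groth.L16.SerreLemma.isSemiab_alg R fun g hg hgc => by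
    haveI := hg; haveI := hgc
    refine hG (g ≫ (j ≫ c) ≫ i) inferInstance ?_
    show IsClosedImmersion (g.left ≫ ((j ≫ c) ≫ i).left)
    infer_instance
  haveI := Groth.L15.TorsLift.isMonHom_pow R ℓ
  obtain ⟨E, gE, e, he, hec, -, sq⟩ := Groth.L08.AbelianGrp.exists_kernel ((𝟙 R : R ⟶ R) ^ ℓ)
  haveI := he; haveI := hec
  haveI : LocallyOfFiniteType E.hom := by rw [← Over.w e]; infer_instance
  haveI : Etale E.hom := by
    have h1 := MorphismProperty.of_isPullback (P := @Etale) (sq.map (Over.forget _)) (etale_pow_field R ℓ hℓk)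
    rwa [show ((Over.forget _).map (toUnit E)) = E.hom from (Category.comp_id _).symm.trans (Over.w (toUnit E))] at h1
  haveI : IsReduced E.left := Groth.Agent.AV.isReduced_of_smooth_field E.hom
  have he1 : e = 1 := Groth.Agent.AV.Isogeny.ext_of_points k e 1 fun P => by
    rw [MonObj.comp_one]
    have hP : (P ≫ e) ^ ℓ = 1 := by
      rw [← MonObj.comp_pow, show e ^ ℓ = 1 by rw [Hom.one_def, ← sq.w, MonObj.comp_pow, Category.comp_id],
        MonObj.comp_one]
    rw [← cancel_mono (j ≫ c), MonObj.one_comp]
    exact hN _ (by rw [← MonObj.pow_comp, hP, MonObj.one_comp])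
  have hm : Mono ((𝟙 R : R ⟶ R) ^ ℓ) := Groth.L08.AbelianGrp.mono_of_kernel _ e sq he1
  haveI := hR.isIso_unit_of_mono_pow ℓ hℓ hm
  haveI : IsIso η[R].left := inferInstanceAs (IsIso ((Over.forget _).map η[R]))
  haveI : Subsingleton ↥R.left := by
    refine ⟨fun a b => ?_⟩
    obtain ⟨x, rfl⟩ := η[R].left.surjective a
    obtain ⟨y, rfl⟩ := η[R].left.surjective b
    exact congrArg η[R].left (Subsingleton.elim (α := PrimeSpectrum k) _ _)
  have hd0 : topologicalKrullDim N.left ≤ 0 := by
    rw [← hRd]; exact topologicalKrullDim_zero_of_discreteTopology _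
  haveI : CompactSpace ↥N.left := QuasiCompact.compactSpace_of_compactSpace N.hom
  haveI : IsLocallyNoetherian N.left := LocallyOfFiniteType.isLocallyNoetherian N.hom
  haveI : IsNoetherian N.left := ⟨⟩
  haveI : TopologicalSpace.NoetherianSpace ↥N.left := inferInstance
  obtain ⟨_, _⟩ := Groth.L06.Dim.discreteTopology_of_dim_le_zero (X := ↥N.left) hd0
  exact Groth.L21.CurveTop.isFinite_of_discrete N.hom

/-- A finite homomorphism into a smooth group of at most the same dimension is flat. -/
theorem flat_of_isFinite_of_dim_le (G H : Over (Spec (CommRingCat.of k))) [GrpObj G] [GrpObj H]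
    [LocallyOfFiniteType G.hom] [QuasiCompact G.hom] [Smooth H.hom] (φ : G ⟶ H) [IsMonHom φ] [IsFinite φ.left]
    (n : ℕ) (hG : topologicalKrullDim G.left = (n : WithBot ℕ∞))
    (hH : topologicalKrullDim H.left ≤ (n : WithBot ℕ∞)) : Flat φ.left := by
  haveI : IsReduced H.left := Groth.Agent.AV.isReduced_of_smooth_field H.hom
  rw [Groth.L19.topologicalKrullDim_eq_krullDim] at hG hH
  let _ := specializationOrder G.left
  let _ := specializationOrder H.left
  obtain ⟨p, hp⟩ := Order.le_krullDim_iff.1 hG.ge
  have hmono : StrictMono φ.left.base := fun a b hab => by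
    have hs : b ⤳ a := hab.le
    refine lt_of_le_of_ne (show φ.left b ⤳ φ.left a from hs.map φ.left.continuous) fun e => ?_
    exact hab.ne (Groth.L19.eq_of_specializes_of_isIntegralHom φ.left hs e.symm).symm
  refine Groth.L25.Translate.flat_of_maximal_mem φ p.last fun a ha => ?_
  by_contra hna
  let q := (p.map φ.left.base hmono).snoc a (by
    rw [LTSeries.last_map]
    refine lt_of_le_of_ne (show φ.left.base p.last ≤ a from ha) fun e => hna ?_
    rw [← e])
  have := (Order.LTSeries.length_le_krullDim q).trans hH
  have h2 : ((n + 1 : ℕ) : WithBot ℕ∞) ≤ n := by simpa [q, hp] using this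
  exact absurd (by exact_mod_cast h2 : n + 1 ≤ n) (by omega)

/-- A property of the geometric fibre of a morphism descends to the fibre. -/
theorem fibre_of_geomFibre (P : MorphismProperty Scheme.{u}) [P.DescendsAlong (@Surjective ⊓ @Flat ⊓ @QuasiCompact)]
    {S : Scheme.{u}} {H N : Over S} (f : H ⟶ N) (s : S)
    (h : P ((Over.pullback (Red.geomPt s)).map f).left) :
    P ((Over.pullback (S.fromSpecResidueField s)).map f).left := by
  let a : Spec (CommRingCat.of (AlgebraicClosure (S.residueField s))) ⟶ Spec (S.residueField s) :=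
    Spec.map (CommRingCat.ofHom (algebraMap (S.residueField s) (AlgebraicClosure (S.residueField s))))
  haveI : Flat a := by
    rw [HasRingHomProperty.Spec_iff (P := @Flat)]
    exact RingHom.flat_algebraMap_iff.2 inferInstance
  haveI : Surjective a := inferInstance
  haveI : QuasiCompact a := inferInstance
  let res := S.fromSpecResidueField s
  let bN : pullback N.hom (Red.geomPt s) ⟶ pullback N.hom res :=
    pullback.lift (pullback.fst _ _) (pullback.snd _ _ ≫ a) (by rw [pullback.condition, Category.assoc]; rfl)
  let bH : pullback H.hom (Red.geomPt s) ⟶ pullback H.hom res :=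
    pullback.lift (pullback.fst _ _) (pullback.snd _ _ ≫ a) (by rw [pullback.condition, Category.assoc]; rfl)
  have sqN : IsPullback bN (pullback.snd N.hom (Red.geomPt s)) (pullback.snd N.hom res) a := by
    refine IsPullback.of_right ?_ (pullback.lift_snd _ _ _) (IsPullback.of_hasPullback N.hom res)
    rw [pullback.lift_fst]
    exact IsPullback.of_hasPullback N.hom (Red.geomPt s)
  have hw : bH ≫ ((Over.pullback res).map f).left = ((Over.pullback (Red.geomPt s)).map f).left ≫ bN := by
    apply pullback.hom_ext
    · rw [Category.assoc, Category.assoc, pullback.lift_fst,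
        ← (Groth.L25.SchImage.isPullback_fst_map res f).w, ← Category.assoc, pullback.lift_fst]
      exact (Groth.L25.SchImage.isPullback_fst_map (Red.geomPt s) f).w
    · rw [Category.assoc, Category.assoc, pullback.lift_snd]
      erw [Over.w ((Over.pullback res).map f), pullback.lift_snd, reassoc_of% (Over.w ((Over.pullback (Red.geomPt s)).map f))]
      rfl
  have sq : IsPullback bH ((Over.pullback (Red.geomPt s)).map f).left ((Over.pullback res).map f).left bN := by
    refine IsPullback.of_right ?_ hw (Groth.L25.SchImage.isPullback_fst_map res f)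
    erw [pullback.lift_fst, pullback.lift_fst]
    exact Groth.L25.SchImage.isPullback_fst_map (Red.geomPt s) f
  exact MorphismProperty.of_isPullback_of_descendsAlong (P := P) (Q := @Surjective ⊓ @Flat ⊓ @QuasiCompact) sq.flip
    ⟨⟨MorphismProperty.of_isPullback sqN.flip ‹Surjective a›, MorphismProperty.of_isPullback sqN.flip ‹Flat a›⟩,
      MorphismProperty.of_isPullback sqN.flip ‹QuasiCompact a›⟩ h

end Groth.L16.UnipRank
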