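import Groth.Agent.L16.UnipRank.Points
import Groth.Agent.L16.UnipRank.Field
import Groth.Agent.Lead.GrpFibreDim
import Groth.Agent.L19.Topology
import Groth.Agent.L08.Borel.FlatNhd

/-!
A homomorphism which is an isogeny at a generization of a point where the source has unipotent rank zero
is flat and quasi-finite near that point.
-/

set_option autoImplicit false
set_option backward.isDefEq.respectTransparency.types false
set_option linter.style.haveILetI false

universe u

open CategoryTheory CategoryTheory.Limits MonoidalCategory CartesianMonoidalCategory MonObj AlgebraicGeometry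

noncomputable section

namespace Groth.L16.UnipRank

/-- Quasi-finiteness at a point means that the point is open in its fibre. -/
theorem quasiFiniteAt_iff_open {X Y : Scheme.{u}} (f : X ⟶ Y) [LocallyOfFiniteType f] (x : X) :
    f.QuasiFiniteAt x ↔ ∃ O : Set X, IsOpen O ∧ O ∩ f ⁻¹' {f x} = {x} := by
  rw [Scheme.Hom.quasiFiniteAt_iff_isOpen_singleton_asFiber, ← (f.fiberHomeo (f x)).isOpen_image]
  simp only [Set.image_singleton, Scheme.Hom.asFiber, Homeomorph.apply_symm_apply]
  rw [isOpen_induced_iff]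
  refine exists_congr fun O => and_congr_right fun _ => ?_
  constructor
  · intro h
    ext z
    constructor
    · rintro ⟨hz, hz'⟩
      have : (⟨z, hz'⟩ : f ⁻¹' {f x}) ∈ (Subtype.val ⁻¹' O : Set (f ⁻¹' {f x})) := hz
      rw [h] at this
      exact congrArg Subtype.val this
    · rintro (rfl : z = x)
      refine ⟨?_, rfl⟩
      have : (⟨z, rfl⟩ : f ⁻¹' {f z}) ∈ (Subtype.val ⁻¹' O : Set (f ⁻¹' {f z})) := by rw [h]; rfl
      exact this
  · intro h
    ext ⟨z, hz⟩
    have h' : z ∈ O ∩ f ⁻¹' {f x} ↔ z = x := by rw [h]; rfl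
    exact ⟨fun hO => Subtype.ext (h'.1 ⟨hO, hz⟩), fun e => (h'.2 (congrArg Subtype.val e)).1⟩

/-- Quasi-finiteness at a point is seen after base change along a preimmersion. -/
theorem quasiFiniteAt_iff_of_isPullback {X Y X' Y' : Scheme.{u}} {w : X' ⟶ X} {f' : X' ⟶ Y'} {f : X ⟶ Y}
    {v : Y' ⟶ Y} (h : IsPullback w f' f v) (hv : IsPreimmersion v) [LocallyOfFiniteType f] (x' : X') :
    f.QuasiFiniteAt (w x') ↔ f'.QuasiFiniteAt x' := by
  haveI := hv
  haveI : LocallyOfFiniteType f' := MorphismProperty.of_isPullback h ‹LocallyOfFiniteType f›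
  haveI : IsPreimmersion w := MorphismProperty.of_isPullback h.flip ‹IsPreimmersion v›
  have hc : ∀ z, f (w z) = v (f' z) := fun z => congr(($(h.w)) z)
  have hr : ∀ z, f z ∈ Set.range v → z ∈ Set.range w := fun z hz => by
    have h1 : z ∈ Set.range (pullback.fst f v) := by rw [Scheme.Pullback.range_fst]; exact hz
    obtain ⟨z₀, hz₀⟩ := h1
    refine ⟨h.isoPullback.inv z₀, ?_⟩
    rw [← Scheme.Hom.comp_apply, h.isoPullback_inv_fst, hz₀]
  rw [quasiFiniteAt_iff_open, quasiFiniteAt_iff_open]
  constructor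
  · rintro ⟨O, hO, e⟩
    refine ⟨w ⁻¹' O, hO.preimage w.continuous, ?_⟩
    ext z
    constructor
    · rintro ⟨hz, hz'⟩
      have : w z ∈ O ∩ f ⁻¹' {f (w x')} :=
        ⟨hz, show f (w z) = f (w x') by rw [hc, hc, show f' z = f' x' from hz']⟩
      rw [e] at this
      exact w.isEmbedding.injective this
    · rintro (rfl : z = x')
      have : w z ∈ O ∩ f ⁻¹' {f (w z)} := by rw [e]; rfl
      exact ⟨this.1, rfl⟩
  · rintro ⟨O', hO', e⟩
    obtain ⟨O, hO, rfl⟩ := w.isEmbedding.isInducing.isOpen_iff.1 hO'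
    refine ⟨O, hO, ?_⟩
    ext z
    constructor
    · rintro ⟨hz, hz' : f z = f (w x')⟩
      obtain ⟨z', rfl⟩ := hr z ⟨f' x', by rw [hz', hc]⟩
      have : z' ∈ w ⁻¹' O ∩ f' ⁻¹' {f' x'} := ⟨hz, v.isEmbedding.injective (by rw [← hc, hz', hc])⟩
      rw [e] at this
      exact congrArg w this
    · rintro (rfl : z = w x')
      have : x' ∈ w ⁻¹' O ∩ f' ⁻¹' {f' x'} := by rw [e]; rfl
      exact ⟨this.1, rfl⟩

theorem fiberι_preimm {X Y : Scheme.{u}} (f : X ⟶ Y) (y : Y) : IsPreimmersion (f.fiberι y) :=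
  MorphismProperty.pullback_fst f (Y.fromSpecResidueField y) inferInstance

variable {S : Scheme.{u}} {G H : Over S} [GrpObj G] [GrpObj H] (u : G ⟶ H) [IsMonHom u]
  [Flat G.hom] [LocallyOfFinitePresentation G.hom]

theorem dim_eq_of_specializes (s t : S) (hts : t ⤳ s) :
    Groth.Lead.GrpFibreDim.dim G t = Groth.Lead.GrpFibreDim.dim G s := by
  have h := Groth.Lead.GrpFibreDim.isLocallyConstant G
  exact hts.mem_open (h {Groth.Lead.GrpFibreDim.dim G s}) rfl

section Nhd

variable [LocallyOfFiniteType H.hom]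

omit [GrpObj G] [GrpObj H] [IsMonHom u] [Flat G.hom] in
theorem lft_hom : LocallyOfFiniteType u.left :=
  haveI := Groth.L08.HomLocus.lfp_hom u
  inferInstance

/-- Quasi-finiteness of a homomorphism at the unit over a point is that of its fibre. -/
theorem locallyQuasiFinite_fibre_iff (s : S) :
    (haveI := lft_hom u; u.left.QuasiFiniteAt (η[G].left s)) ↔
      LocallyQuasiFinite ((Over.pullback (S.fromSpecResidueField s)).map u).left := by
  haveI := lft_hom u
  let res := S.fromSpecResidueField s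
  let G' : Over (Spec (CommRingCat.of (S.residueField s))) := Red.bc res G
  have hsq := Groth.L08.IsogenyFibres.isPullback_fibre G H u s
  let c : Spec (CommRingCat.of (S.residueField s)) := IsLocalRing.closedPoint (S.residueField s)
  let p : (Red.bc res G).left := η[Red.bc res G].left c
  have hp : pullback.fst G.hom res p = η[G].left s :=
    (fst_unit G res c).trans (congrArg η[G].left (Scheme.fromSpecResidueField_apply s c))
  rw [← hp, quasiFiniteAt_iff_of_isPullback hsq (fiberι_preimm H.hom s) p]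
  refine ⟨fun hq => ?_, fun _ => Scheme.Hom.quasiFiniteAt _ _⟩
  let f' := ((Over.pullback res).map u).left
  haveI : LocallyOfFiniteType f' := MorphismProperty.of_isPullback hsq ‹LocallyOfFiniteType u.left›
  refine Groth.L08.HomLocus.fibre_of_open u @LocallyQuasiFinite s f'.quasiFiniteLocus ⟨p, hq⟩ ?_
  haveI : LocallyOfFiniteType (f'.quasiFiniteLocus.ι ≫ f') := inferInstance
  refine (Scheme.Hom.quasiFiniteLocus_eq_top_iff _).1 (eq_top_iff.2 fun y _ => ?_)
  exact Scheme.Hom.quasiFiniteAt_comp_iff_of_isOpenImmersion.2 y.2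

omit [GrpObj G] [GrpObj H] [IsMonHom u] [Flat G.hom] [LocallyOfFinitePresentation G.hom] [LocallyOfFiniteType H.hom] in
/-- A property over an open holds after any base change landing in it. -/
theorem of_preimage (P : MorphismProperty Scheme.{u}) [P.IsStableUnderBaseChange] (U : S.Opens)
    (h : P ((G.hom ⁻¹ᵁ U).ι ≫ u.left)) {V : Scheme.{u}} (q : V ⟶ S) (hq : Set.range q ⊆ (U : Set S)) :
    P ((Over.pullback q).map u).left := by
  let W : G.left.Opens := G.hom ⁻¹ᵁ U
  have sq := Groth.L25.SchImage.isPullback_fst_map q u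
  have hr : Set.range (pullback.fst G.hom q) ⊆ Set.range W.ι := by
    rintro _ ⟨y, rfl⟩
    rw [Scheme.Opens.range_ι]
    show G.hom _ ∈ U
    rw [← Scheme.Hom.comp_apply, pullback.condition, Scheme.Hom.comp_apply]
    exact hq ⟨_, rfl⟩
  let l := IsOpenImmersion.lift W.ι (pullback.fst G.hom q) hr
  have hl : l ≫ W.ι = pullback.fst G.hom q := IsOpenImmersion.lift_fac _ _ _
  have sq' : IsPullback l ((Over.pullback q).map u).left (W.ι ≫ u.left) (pullback.fst H.hom q) := by
    refine IsPullback.of_isLimit' ⟨by rw [← Category.assoc, hl]; exact sq.w⟩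
      (PullbackCone.IsLimit.mk _ (fun c => sq.lift (c.fst ≫ W.ι) c.snd (by rw [Category.assoc]; exact c.condition))
        (fun c => by rw [← cancel_mono W.ι, Category.assoc, hl, sq.lift_fst])
        (fun c => sq.lift_snd _ _ _)
        fun c m h1 h2 => sq.hom_ext (by rw [sq.lift_fst, ← hl, reassoc_of% h1]) (by rw [sq.lift_snd, h2]))
  exact MorphismProperty.of_isPullback sq' h

/-- Where it is flat and quasi-finite on a fibre, a homomorphism is flat and quasi-finite nearby. -/
theorem exists_nhd_flat_quasiFinite (s : S)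
    (hf : Flat ((Over.pullback (S.fromSpecResidueField s)).map u).left)
    (hq : LocallyQuasiFinite ((Over.pullback (S.fromSpecResidueField s)).map u).left) :
    ∃ U : S.Opens, s ∈ U ∧ Flat ((G.hom ⁻¹ᵁ U).ι ≫ u.left) ∧
      LocallyQuasiFinite ((G.hom ⁻¹ᵁ U).ι ≫ u.left) := by
  haveI := lft_hom u
  haveI := Groth.L08.HomLocus.lfp_hom u
  let O : G.left.Opens := ⟨{y | (u.left.stalkMap y).hom.Flat}, Groth.Agent.S0386.result u.left⟩ ⊓
    u.left.quasiFiniteLocus
  let e : S ⟶ G.left := η[G].left
  have he : ∀ t : S, G.hom (e t) = t := fun t => congr(($(Over.w η[G])) t)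
  let U : S.Opens := e ⁻¹ᵁ O
  refine ⟨U, ⟨?_, (locallyQuasiFinite_fibre_iff u s).2 hq⟩, ?_⟩
  · show (u.left.stalkMap (e s)).hom.Flat
    rw [Groth.L08.HomLocus.flat_stalk_iff u, he s]
    exact hf
  let W : G.left.Opens := G.hom ⁻¹ᵁ U
  have hflat : ∀ t ∈ U, Flat ((Over.pullback (S.fromSpecResidueField t)).map u).left := fun t ht => by
    have h1 : (u.left.stalkMap (e t)).hom.Flat := ht.1
    rw [Groth.L08.HomLocus.flat_stalk_iff u, he t] at h1
    exact h1
  have hW : Flat (W.ι ≫ u.left) := Flat.of_stalkMap _ fun y => by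
    rw [Scheme.Hom.stalkMap_comp]
    refine (RingHom.Flat.respectsIso.cancel_right_isIso _ _).2 ?_
    exact (Groth.L08.HomLocus.flat_stalk_iff u _).2 (hflat _ y.2)
  have hW' : LocallyQuasiFinite (W.ι ≫ u.left) := by
    refine (Scheme.Hom.quasiFiniteLocus_eq_top_iff _).1 (eq_top_iff.2 fun y _ => ?_)
    refine Scheme.Hom.quasiFiniteAt_comp_iff_of_isOpenImmersion.2 ?_
    obtain ⟨t, ht⟩ : ∃ t, G.hom (W.ι y) = t := ⟨_, rfl⟩
    obtain ⟨y', hy'⟩ : W.ι y ∈ Set.range (pullback.fst G.hom (S.fromSpecResidueField t)) := by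
      rw [Scheme.Pullback.range_fst, Set.mem_preimage, Scheme.range_fromSpecResidueField]
      exact ht
    have htU : t ∈ U := ht ▸ y.2
    haveI := (locallyQuasiFinite_fibre_iff u t).1 htU.2
    rw [← hy', quasiFiniteAt_iff_of_isPullback (Groth.L08.IsogenyFibres.isPullback_fibre G H u t) (fiberι_preimm H.hom t)]
    exact Scheme.Hom.quasiFiniteAt _ _
  exact ⟨hW, hW'⟩

end Nhd

variable [IsCommMonObj G] [IsSeparated G.hom] [QuasiCompact G.hom] [Smooth H.hom]

omit [Flat G.hom] [IsCommMonObj G] [IsSeparated G.hom] in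
theorem isFinite_fibre_isogeny (t : S) (hiso : SGA7.IsIsogenyOver (SGA7.fibreHom t u)) :
    IsFinite ((Over.pullback (S.fromSpecResidueField t)).map u).left := by
  let G' : Over (Spec (CommRingCat.of (S.residueField t))) := Red.bc (S.fromSpecResidueField t) G
  let H' : Over (Spec (CommRingCat.of (S.residueField t))) := Red.bc (S.fromSpecResidueField t) H
  letI : GrpObj G' := inferInstanceAs (GrpObj (Red.bc (S.fromSpecResidueField t) G))
  letI : GrpObj H' := inferInstanceAs (GrpObj (Red.bc (S.fromSpecResidueField t) H))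
  haveI : QuasiCompact G'.hom := MorphismProperty.pullback_snd _ _ ‹QuasiCompact G.hom›
  haveI : LocallyOfFiniteType G'.hom := inferInstanceAs (LocallyOfFiniteType (pullback.snd G.hom _))
  haveI : LocallyOfFiniteType H'.hom := inferInstanceAs (LocallyOfFiniteType (pullback.snd H.hom _))
  haveI := Groth.L08.AbelianGrp.isSeparated H'
  let φ : G' ⟶ H' := (Over.pullback (S.fromSpecResidueField t)).map u
  haveI : IsMonHom φ := Functor.map.instIsMonHom (F := Over.pullback (S.fromSpecResidueField t)) (f := u)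
  obtain ⟨N, gN, i, hi, hic, -, sq⟩ := Groth.L08.AbelianGrp.exists_kernel φ
  haveI : IsFinite N.hom := hiso.2 N i sq
  exact Groth.L18.GrpHomFinite.isFinite_of_kernel_finite φ i sq

/-- The fibre at the special point is finite and flat. -/
theorem fibre_finite_flat (s t : S) (hts : t ⤳ s) (hs : SGA7.FibreUnipotentRankZero s G)
    (hiso : SGA7.IsIsogenyOver (SGA7.fibreHom t u)) :
    IsFinite ((Over.pullback (S.fromSpecResidueField s)).map u).left ∧
      Flat ((Over.pullback (S.fromSpecResidueField s)).map u).left := by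
  obtain ⟨d, hd⟩ := exists_bound_kernel G H u t hiso
  obtain ⟨ℓ, hℓb, hℓ⟩ := Nat.exists_infinite_primes (max d (ringChar (S.residueField s)) + 1)
  have hℓs : (ℓ : S.residueField s) ≠ 0 := fun h => by
    rw [ringChar.spec] at h
    rcases (Nat.dvd_prime hℓ).1 h with h' | h'
    · exact absurd h' (CharP.ringChar_ne_one)
    · omega
  let θ := Red.geomPt s
  let Ω := AlgebraicClosure (S.residueField s)
  let G₀ : Over (Spec (CommRingCat.of Ω)) := Red.bc θ G
  let H₀ : Over (Spec (CommRingCat.of Ω)) := Red.bc θ H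
  letI : GrpObj G₀ := inferInstanceAs (GrpObj (Red.bc θ G))
  letI : GrpObj H₀ := inferInstanceAs (GrpObj (Red.bc θ H))
  haveI : IsCommMonObj G₀ := inferInstanceAs (IsCommMonObj ((Over.pullback θ).obj G))
  haveI : QuasiCompact G₀.hom := MorphismProperty.pullback_snd _ _ ‹QuasiCompact G.hom›
  haveI : LocallyOfFiniteType G₀.hom := inferInstanceAs (LocallyOfFiniteType (pullback.snd G.hom θ))
  haveI : LocallyOfFiniteType H₀.hom := inferInstanceAs (LocallyOfFiniteType (pullback.snd H.hom θ))
  haveI := Groth.L08.AbelianGrp.isSeparated H₀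
  let φ : G₀ ⟶ H₀ := (Over.pullback θ).map u
  haveI : IsMonHom φ := Functor.map.instIsMonHom (F := Over.pullback θ) (f := u)
  obtain ⟨N, gN, i, hi, hic, -, sq⟩ := Groth.L08.AbelianGrp.exists_kernel φ
  haveI := hi; haveI := hic
  haveI : Mono i := Over.mono_of_mono_left i
  haveI : IsFinite N.hom := by
    have hℓΩ : (ℓ : Ω) ≠ 0 := by
      rw [← map_natCast (algebraMap (S.residueField s) Ω)]
      exact (map_ne_zero _).2 hℓs
    refine isFinite_of_noTorsion hs i hℓ.two_le hℓΩ fun x hx => ?_
    rw [← cancel_mono i, MonObj.one_comp]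
    let T : Over (Spec (CommRingCat.of Ω)) := Groth.Agent.AV.Isogeny.geomPt Ω Ω
    let Φ : (T ⟶ G₀) →* (Over.mk (T.hom ≫ θ) ⟶ G) :=
      MonoidHom.mk' (fun a => Groth.L25.NilAction.toBase θ a) (Groth.L25.NilAction.toBase_mul θ)
    have hy : (x ≫ i) ^ ℓ = 1 := by rw [← MonObj.pow_comp, hx, MonObj.one_comp]
    have hu : (x ≫ i) ≫ φ = 1 := by
      rw [Category.assoc, sq.w, ← Category.assoc, comp_toUnit, ← Hom.one_def]
    refine Groth.L08.Borel.toBase_injective θ _ _ ?_
    rw [Groth.L25.NilAction.toBase_one]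
    refine eq_one_of_generization G H u ℓ s t hts hℓs (fun Ω' _ θ' hθ' z hz hzu => hd ℓ hℓ (by omega) Ω' θ' hθ' z hz hzu)
      (T.hom ≫ θ) ((Scheme.Hom.comp_apply _ _ _).trans (Scheme.fromSpecResidueField_apply s _)) _ ?_ ?_
    · exact ((map_pow Φ _ ℓ).symm.trans (congrArg Φ hy)).trans (map_one Φ)
    · rw [← Groth.L08.Borel.toBase_map' θ (x ≫ i) u, hu]
      exact Groth.L25.NilAction.toBase_one θ
  haveI hfin : IsFinite φ.left := Groth.L18.GrpHomFinite.isFinite_of_kernel_finite φ i sq
  have hfs : IsFinite ((Over.pullback (S.fromSpecResidueField s)).map u).left :=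
    fibre_of_geomFibre @IsFinite u s hfin
  refine ⟨hfs, ?_⟩
  haveI := hfs
  let G' : Over (Spec (CommRingCat.of (S.residueField s))) := Red.bc (S.fromSpecResidueField s) G
  let H' : Over (Spec (CommRingCat.of (S.residueField s))) := Red.bc (S.fromSpecResidueField s) H
  letI : GrpObj G' := inferInstanceAs (GrpObj (Red.bc (S.fromSpecResidueField s) G))
  letI : GrpObj H' := inferInstanceAs (GrpObj (Red.bc (S.fromSpecResidueField s) H))
  haveI : QuasiCompact G'.hom := MorphismProperty.pullback_snd _ _ ‹QuasiCompact G.hom›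
  haveI : LocallyOfFiniteType G'.hom := inferInstanceAs (LocallyOfFiniteType (pullback.snd G.hom _))
  haveI : Smooth H'.hom := MorphismProperty.pullback_snd _ _ ‹Smooth H.hom›
  let φs : G' ⟶ H' := (Over.pullback (S.fromSpecResidueField s)).map u
  haveI : IsMonHom φs := Functor.map.instIsMonHom (F := Over.pullback (S.fromSpecResidueField s)) (f := u)
  haveI : IsFinite φs.left := hfs
  obtain ⟨n, hn⟩ := Groth.Lead.GrpFibreDim.exists_nat G s
  refine flat_of_isFinite_of_dim_le G' H' φs n ((Groth.Lead.GrpFibreDim.dim_eq_fiber G s).symm.trans hn) ?_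
  haveI := isFinite_fibre_isogeny u t hiso
  haveI : Surjective ((Over.pullback (S.fromSpecResidueField t)).map u).left := hiso.1
  calc topologicalKrullDim H'.left = Groth.Lead.GrpFibreDim.dim H s := (Groth.Lead.GrpFibreDim.dim_eq_fiber H s).symm
    _ = Groth.Lead.GrpFibreDim.dim H t := (dim_eq_of_specializes s t hts).symm
    _ ≤ Groth.Lead.GrpFibreDim.dim G t := by
      rw [Groth.Lead.GrpFibreDim.dim_eq_fiber, Groth.Lead.GrpFibreDim.dim_eq_fiber]
      exact Groth.L19.topologicalKrullDim_le_of_surjective_specializing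
        ((Over.pullback (S.fromSpecResidueField t)).map u).left.surjective
        ((Over.pullback (S.fromSpecResidueField t)).map u).left.isClosedMap.specializingMap
    _ = _ := (dim_eq_of_specializes s t hts).trans hn

/-- The homomorphism is flat and quasi-finite near the special point. -/
theorem exists_nhd (s t : S) (hts : t ⤳ s) (hs : SGA7.FibreUnipotentRankZero s G)
    (hiso : SGA7.IsIsogenyOver (SGA7.fibreHom t u)) :
    ∃ U : S.Opens, s ∈ U ∧ Flat ((G.hom ⁻¹ᵁ U).ι ≫ u.left) ∧
      LocallyQuasiFinite ((G.hom ⁻¹ᵁ U).ι ≫ u.left) := by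
  obtain ⟨hfin, hf⟩ := fibre_finite_flat u s t hts hs hiso
  haveI := hfin
  exact exists_nhd_flat_quasiFinite u s hf inferInstance

end Groth.L16.UnipRank
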