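import Groth.Agent.L16.UnipRank.Main
import Groth.Agent.L26.Neron.Basic

/-!
A homomorphism which is flat near a point and a monomorphism at a generization is a monomorphism there,
hence an open immersion nearby.
-/

set_option autoImplicit false
set_option backward.isDefEq.respectTransparency.types false
set_option linter.style.haveILetI false

universe u

open CategoryTheory CategoryTheory.Limits MonoidalCategory CartesianMonoidalCategory MonObj AlgebraicGeometry

noncomputable section

namespace Groth.L16.UnipRank

variable {S : Scheme.{u}} {G H : Over S} [GrpObj G] [GrpObj H] (u : G ⟶ H) [IsMonHom u]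

/-- If the homomorphism is a monomorphism after base change, no point lying over the base is killed. -/
theorem eq_one_of_mono {P : Scheme.{u}} (q : P ⟶ S) [Mono ((Over.pullback q).map u)] {W : Scheme.{u}}
    (f : W ⟶ S) (hf : ∃ a, a ≫ q = f) (x : Over.mk f ⟶ G) (hx : x ≫ u = 1) : x = 1 := by
  obtain ⟨a, rfl⟩ := hf
  haveI : IsMonHom ((Over.pullback q).map u) := Functor.map.instIsMonHom (F := Over.pullback q) (f := u)
  have key : ∀ (Y : Over P) (x : Over.mk (Y.hom ≫ q) ⟶ G), x ≫ u = 1 → x = 1 := fun Y x hx => by
    have h : Groth.L25.NilAction.ofBase q x ≫ (Over.pullback q).map u = 1 := by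
      refine Groth.L08.Borel.toBase_injective q _ _ ?_
      rw [Groth.L08.Borel.toBase_map', Groth.L25.NilAction.toBase_ofBase, hx]
      exact (Groth.L25.NilAction.toBase_one q).symm
    have h2 : Groth.L25.NilAction.ofBase q x = 1 := by
      rw [← cancel_mono ((Over.pullback q).map u), h]
      exact (MonObj.one_comp _).symm
    rw [← Groth.L25.NilAction.toBase_ofBase q x, h2]
    exact Groth.L25.NilAction.toBase_one q
  exact key (Over.mk a) x hx

theorem isPreimmersion_one {T : Scheme.{u}} (K : Over T) [GrpObj K] : IsPreimmersion η[K].left := by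
  haveI : IsImmersion (η[K].left ≫ K.hom) := by
    rw [Over.w η[K]]; exact inferInstanceAs (IsImmersion (𝟙 T))
  haveI := IsImmersion.of_comp η[K].left K.hom
  infer_instance

variable [Flat G.hom] [LocallyOfFinitePresentation G.hom] [IsSeparated G.hom]

/-- A monomorphism at a generization stays one where the homomorphism is flat. -/
theorem mono_fibre_of_generization (U : S.Opens) (hflat : Flat ((G.hom ⁻¹ᵁ U).ι ≫ u.left)) (s t : S)
    (hts : t ⤳ s) (hsU : s ∈ U) [Mono ((Over.pullback (S.fromSpecResidueField t)).map u)] :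
    Mono ((Over.pullback (S.fromSpecResidueField s)).map u) := by
  obtain ⟨p, hp⟩ : t ∈ Set.range (S.fromSpecStalk s) := by
    rw [Scheme.range_fromSpecStalk]; exact hts
  let A := S.presheaf.stalk s
  let R := A ⧸ p.asIdeal
  haveI : IsDomain R := Ideal.Quotient.isDomain p.asIdeal
  let q : Spec (CommRingCat.of R) ⟶ S :=
    Spec.map (CommRingCat.ofHom (Ideal.Quotient.mk p.asIdeal)) ≫ S.fromSpecStalk s
  have hq : Set.range q ⊆ (U : Set S) := by
    rintro _ ⟨z, rfl⟩
    have h1 : q z ⤳ s := by
      show q z ∈ {x | x ⤳ s}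
      rw [← Scheme.range_fromSpecStalk]
      exact ⟨_, (Scheme.Hom.comp_apply _ _ _).symm⟩
    exact h1.mem_open U.2 hsU
  have hgen : (Neron.genPt R ≫ q) (IsLocalRing.closedPoint (FractionRing R)) = t := by
    have h0 : (Spec.map (CommRingCat.ofHom (Ideal.Quotient.mk p.asIdeal)))
        ((Neron.genPt R) (IsLocalRing.closedPoint (FractionRing R))) = p := by
      refine PrimeSpectrum.ext ?_
      show Ideal.comap (Ideal.Quotient.mk p.asIdeal) (Ideal.comap (algebraMap R (FractionRing R))
        (IsLocalRing.maximalIdeal (FractionRing R))) = p.asIdeal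
      rw [IsLocalRing.maximalIdeal_eq_bot, ← RingHom.ker_eq_comap_bot,
        (RingHom.injective_iff_ker_eq_bot _).1 (IsFractionRing.injective R (FractionRing R)),
        ← RingHom.ker_eq_comap_bot, Ideal.mk_ker]
    rw [Scheme.Hom.comp_apply, Scheme.Hom.comp_apply, h0]
    exact hp
  obtain ⟨a, ha⟩ := exists_residue_factor (Neron.genPt R ≫ q) t hgen
  let K := pullback u η[H]
  let i : K ⟶ G := pullback.fst u η[H]
  have sq : AlgGrp.IsKernel i u := by
    show IsPullback i (toUnit K) u η[H]
    rw [toUnit_unique (toUnit K) (pullback.snd u η[H])]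
    exact IsPullback.of_hasPullback _ _
  let G' : Over (Spec (CommRingCat.of R)) := Red.bc q G
  let H' : Over (Spec (CommRingCat.of R)) := Red.bc q H
  letI : GrpObj G' := inferInstanceAs (GrpObj (Red.bc q G))
  letI : GrpObj H' := inferInstanceAs (GrpObj (Red.bc q H))
  let u' : G' ⟶ H' := (Over.pullback q).map u
  haveI : IsMonHom u' := Functor.map.instIsMonHom (F := Over.pullback q) (f := u)
  let N : Over (Spec (CommRingCat.of R)) := (Over.pullback q).obj K
  let j : N ⟶ G' := (Over.pullback q).map i
  have sq' : IsPullback j (toUnit N) u' η[H'] := isKernel_pullback q sq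
  have sql := sq'.map (Over.forget _)
  have hu'flat : Flat u'.left := of_preimage u @Flat U hflat q hq
  haveI : Flat N.hom := by
    have h1 := MorphismProperty.of_isPullback (P := @Flat) sql hu'flat
    rwa [show ((Over.forget _).map (toUnit N)) = N.hom from (Category.comp_id _).symm.trans (Over.w (toUnit N))] at h1
  haveI : IsPreimmersion j.left :=
    MorphismProperty.of_isPullback (P := @IsPreimmersion) sql.flip (isPreimmersion_one H')
  haveI : IsSeparated G'.hom := MorphismProperty.pullback_snd _ _ ‹IsSeparated G.hom›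
  haveI : IsSeparated N.hom := by rw [← Over.w j]; infer_instance
  haveI : Mono j := Over.mono_of_mono_left j
  let o : N ⟶ N := toUnit N ≫ sq'.lift η[G'] (toUnit _) (by
    rw [IsMonHom.one_hom, toUnit_unique (toUnit (𝟙_ _)) (𝟙 _), Category.id_comp])
  have hj : j = 1 := by
    have key : 𝟙 N = o := by
      refine Groth.Agent.NeronL.eq_of_genericFibre R N N _ _ ?_
      let jg := Groth.L25.NilAction.toBase (Neron.genPt R) (𝟙 ((Neron.genericFibre R).obj N))
      have hone : jg ≫ j = jg ≫ (1 : N ⟶ G') := by
        have hk : (jg ≫ j) ≫ u' = 1 := by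
          rw [Category.assoc, sq'.w, ← Category.assoc, comp_toUnit, ← Hom.one_def]
        refine Groth.L08.Borel.toBase_injective q _ _ ?_
        rw [MonObj.comp_one, Groth.L25.NilAction.toBase_one]
        refine eq_one_of_mono u (S.fromSpecResidueField t) _ ?_ _ ?_
        · exact ⟨((Neron.genericFibre R).obj N).hom ≫ a, by rw [Category.assoc, ha]; exact (Category.assoc _ _ _).symm⟩
        · rw [← Groth.L08.Borel.toBase_map', hk]
          exact Groth.L25.NilAction.toBase_one q
      have ho : jg ≫ 𝟙 N = jg ≫ o := by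
        rw [← cancel_mono j, Category.assoc, Category.assoc, Category.id_comp, hone]
        show jg ≫ 1 = jg ≫ (toUnit N ≫ _) ≫ j
        rw [Category.assoc, sq'.lift_fst, ← Hom.one_def]
      refine Groth.L08.Borel.toBase_injective (Neron.genPt R) _ _ ?_
      rw [← Category.id_comp ((Neron.genericFibre R).map (𝟙 N)), ← Category.id_comp ((Neron.genericFibre R).map o)]
      exact (Groth.L08.Borel.toBase_map' _ _ _).trans (ho.trans (Groth.L08.Borel.toBase_map' _ _ _).symm)
    rw [← Category.id_comp j, key]
    show (toUnit N ≫ _) ≫ j = 1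
    rw [Category.assoc, sq'.lift_fst, ← Hom.one_def]
  have hR : ∀ {Y : Over (Spec (CommRingCat.of R))} (y : Y ⟶ G'), y ≫ u' = 1 → y = 1 := fun {Y} y hy => by
    exact (sq'.lift_fst y (toUnit Y) (hy.trans Hom.one_def)).symm.trans
      ((congrArg (_ ≫ ·) hj).trans (MonObj.comp_one _))
  let r : R →+* S.residueField s := Ideal.Quotient.lift p.asIdeal (IsLocalRing.residue A)
    fun z hz => (IsLocalRing.residue_eq_zero_iff z).2 (IsLocalRing.le_maximalIdeal p.2.ne_top hz)
  have hr : Spec.map (CommRingCat.ofHom r) ≫ q = S.fromSpecResidueField s := by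
    rw [← Category.assoc, ← Spec.map_comp, ← CommRingCat.ofHom_comp, Ideal.Quotient.lift_comp_mk]
    rfl
  haveI : IsMonHom ((Over.pullback (S.fromSpecResidueField s)).map u) :=
    Functor.map.instIsMonHom (F := Over.pullback (S.fromSpecResidueField s)) (f := u)
  refine ⟨fun {T} x y e => mul_inv_eq_one.1 ?_⟩
  have e' : (x * y⁻¹) ≫ (Over.pullback (S.fromSpecResidueField s)).map u = 1 := by
    rw [MonObj.mul_comp, GrpObj.inv_comp, e, mul_inv_cancel]
  refine Groth.L08.Borel.toBase_injective (S.fromSpecResidueField s) _ _ ?_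
  rw [Groth.L25.NilAction.toBase_one]
  haveI : Mono u' := ⟨fun {T} a b e => mul_inv_eq_one.1 (hR _ (by
    rw [MonObj.mul_comp, GrpObj.inv_comp, e, mul_inv_cancel]))⟩
  refine eq_one_of_mono u q _ ⟨T.hom ≫ Spec.map (CommRingCat.ofHom r), (Category.assoc _ _ _).trans (congrArg (T.hom ≫ ·) hr)⟩ _ ?_
  rw [← Groth.L08.Borel.toBase_map', e']
  exact Groth.L25.NilAction.toBase_one _

/-- A flat homomorphism into a smooth group which is a monomorphism on a fibre is open there. -/
theorem isOpenImmersion_fibre [Smooth H.hom] (s : S)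
    (hf : Flat ((Over.pullback (S.fromSpecResidueField s)).map u).left)
    [Mono ((Over.pullback (S.fromSpecResidueField s)).map u)] :
    IsOpenImmersion ((Over.pullback (S.fromSpecResidueField s)).map u).left := by
  let res := S.fromSpecResidueField s
  haveI := hf
  haveI : Mono ((Over.pullback res).map u).left :=
    inferInstanceAs (Mono ((Over.forget _).map ((Over.pullback res).map u)))
  haveI : LocallyOfFinitePresentation ((Over.pullback res).map u).left :=
    MorphismProperty.of_isPullback (P := @LocallyOfFinitePresentation) (Groth.L25.SchImage.isPullback_fst_map res u)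
      (Groth.L08.HomLocus.lfp_hom u)
  exact IsOpenImmersion.of_flat_of_mono _

/-- Flat and open on every fibre over an open gives an open immersion there. -/
theorem isOpenImmersion_preimage [Smooth H.hom] (U : S.Opens)
    (h : ∀ s ∈ U, IsOpenImmersion ((Over.pullback (S.fromSpecResidueField s)).map u).left) :
    IsOpenImmersion ((G.hom ⁻¹ᵁ U).ι ≫ u.left) := by
  let W := G.hom ⁻¹ᵁ U
  refine (Groth.L05.Point.isOpenImmersion_iff_fibres H.hom (W.ι ≫ G.hom) (W.ι ≫ u.left)
    (by rw [Category.assoc, Over.w u])).2 fun s => ?_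
  by_cases hs : s ∈ U
  · have h1 : IsOpenImmersion (pullback.snd u.left (H.hom.fiberι s)) := by
      haveI := h s hs
      let sqf := Groth.L08.IsogenyFibres.isPullback_fibre G H u s
      have h2 : IsOpenImmersion (sqf.isoPullback.inv ≫ ((Over.pullback (S.fromSpecResidueField s)).map u).left) :=
        inferInstance
      exact sqf.isoPullback_inv_snd ▸ h2
    rw [← pullbackRightPullbackFstIso_inv_snd_snd u.left (H.hom.fiberι s) W.ι]
    infer_instance
  · haveI : IsEmpty ↥(pullback (W.ι ≫ u.left) (H.hom.fiberι s)) := ⟨fun z => hs (by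
      have h1 := congr(($(pullback.condition (f := W.ι ≫ u.left) (g := H.hom.fiberι s))) z)
      let z' := pullback.fst (W.ι ≫ u.left) (H.hom.fiberι s) z
      have h2 : H.hom (u.left (W.ι z')) = s := by
        simp only [Scheme.Hom.comp_apply] at h1
        rw [show u.left (W.ι z') = _ from h1]
        have h3 : H.hom.fiberι s (pullback.snd (W.ι ≫ u.left) (H.hom.fiberι s) z) ∈ H.hom ⁻¹' {s} := by
          rw [← Scheme.Hom.range_fiberι]; exact ⟨_, rfl⟩
        exact h3
      rw [← Scheme.Hom.comp_apply, Over.w u] at h2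
      exact h2 ▸ z'.2)⟩
    infer_instance

end Groth.L16.UnipRank
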