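import Groth.Agent.L16.UnipRank.PowEtale
import Mathlib.AlgebraicGeometry.Morphisms.Finite
import Mathlib.AlgebraicGeometry.Morphisms.FormallyUnramified
import Mathlib.RingTheory.IntegralDomain
import Groth.Prelude.Def_SGA7IX

/-!
Kernels without small torsion at a generization have none at the specialisation.
-/

set_option autoImplicit false
set_option backward.isDefEq.respectTransparency.types false
set_option linter.style.haveILetI false

universe u

open CategoryTheory CategoryTheory.Limits MonoidalCategory CartesianMonoidalCategory MonObj AlgebraicGeometry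

noncomputable section

namespace Groth.L16.UnipRank

/-- A finite scheme over a field has boundedly many points in every field. -/
theorem exists_bound_points {K : Type u} [Field K] (Z : Scheme.{u}) (g : Z ⟶ Spec (CommRingCat.of K)) [IsFinite g] :
    ∃ d : ℕ, ∀ (Ω : Type u) [Field Ω] (a : Spec (CommRingCat.of Ω) ⟶ Spec (CommRingCat.of K)),
      Finite {f : Spec (CommRingCat.of Ω) ⟶ Z // f ≫ g = a} ∧
        Nat.card {f : Spec (CommRingCat.of Ω) ⟶ Z // f ≫ g = a} ≤ d := by
  haveI : IsAffine Z := isAffine_of_isAffineHom g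
  let φ : CommRingCat.of K ⟶ Γ(Z, ⊤) := Spec.preimage (Z.isoSpec.inv ≫ g)
  have hφ : Spec.map φ = Z.isoSpec.inv ≫ g := Spec.map_preimage _
  letI : Algebra K Γ(Z, ⊤) := φ.hom.toAlgebra
  haveI : Module.Finite K Γ(Z, ⊤) := by
    have h : IsFinite (Spec.map φ) := by rw [hφ]; infer_instance
    rw [IsFinite.SpecMap_iff] at h
    exact h
  refine ⟨Module.finrank K Γ(Z, ⊤), fun Ω _ a => ?_⟩
  letI : Algebra K Ω := (Spec.preimage a).hom.toAlgebra
  let toHom : {f : Spec (CommRingCat.of Ω) ⟶ Z // f ≫ g = a} → (Γ(Z, ⊤) →ₐ[K] Ω) := fun f =>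
    { toRingHom := (Spec.preimage (f.1 ≫ Z.isoSpec.hom)).hom
      commutes' := fun c => by
        have e : φ ≫ Spec.preimage (f.1 ≫ Z.isoSpec.hom) = Spec.preimage a := by
          apply Spec.map_injective
          rw [Spec.map_comp, hφ, Spec.map_preimage, Spec.map_preimage, Category.assoc, Iso.hom_inv_id_assoc]
          exact f.2
        exact congr(($e).hom c) }
  have hinj : Function.Injective toHom := fun f f' e => by
    refine Subtype.ext ((cancel_mono Z.isoSpec.hom).1 ?_)
    rw [← Spec.map_preimage (f.1 ≫ Z.isoSpec.hom), ← Spec.map_preimage (f'.1 ≫ Z.isoSpec.hom)]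
    exact congrArg Spec.map (CommRingCat.hom_ext (congrArg AlgHom.toRingHom e))
  refine ⟨Finite.of_injective _ hinj, (Nat.card_le_card_of_injective _ hinj).trans ?_⟩
  exact card_algHom_le_finrank K Γ(Z, ⊤) Ω

variable {S : Scheme.{u}}

/-- Base change of a kernel. -/
theorem isKernel_pullback {S' : Scheme.{u}} (t : S' ⟶ S) {N G Q : Over S} [GrpObj Q] {i : N ⟶ G} {q : G ⟶ Q}
    (sq : AlgGrp.IsKernel i q) : AlgGrp.IsKernel ((Over.pullback t).map i) ((Over.pullback t).map q) := by
  let F := Over.pullback t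
  refine IsPullback.mk' ?_ (fun T a b e1 _ => (sq.map F).hom_ext e1 ?_) (fun T a b e => ?_)
  · rw [← F.map_comp, sq.w, F.map_comp]
    show _ = toUnit _ ≫ Functor.LaxMonoidal.ε F ≫ F.map η[Q]
    rw [← Category.assoc]
    congr 1
    rw [← Category.comp_id (F.map (toUnit N)), ← (Functor.Monoidal.εIso F).inv_hom_id, ← Category.assoc]
    congr 1
    exact toUnit_unique _ _
  · rw [← Category.comp_id (a ≫ F.map (toUnit N)), ← Category.comp_id (b ≫ F.map (toUnit N)),
      ← (Functor.Monoidal.εIso F).inv_hom_id, ← Category.assoc, ← Category.assoc]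
    congr 1
    exact toUnit_unique _ _
  · obtain ⟨c, hc, -⟩ := (sq.map F).exists_lift a (b ≫ Functor.LaxMonoidal.ε F) (by
      rw [e, Category.assoc]; rfl)
    exact ⟨c, hc, toUnit_unique _ _⟩

theorem exists_residue_factor {Ω : Type u} [Field Ω] (θ : Spec (CommRingCat.of Ω) ⟶ S) (t : S)
    (h : θ (IsLocalRing.closedPoint Ω) = t) :
    ∃ a : Spec (CommRingCat.of Ω) ⟶ Spec (S.residueField t), a ≫ S.fromSpecResidueField t = θ := by
  subst h
  exact ⟨_, S.descResidueField_stalkClosedPointTo_fromSpecResidueField _ θ⟩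

variable (G H : Over S) [GrpObj G] [IsCommMonObj G] [GrpObj H] (u : G ⟶ H) [IsMonHom u]

/-- Large primes do not occur as orders in a finite kernel. -/
theorem exists_bound_kernel (t : S) (hiso : SGA7.IsIsogenyOver (SGA7.fibreHom t u)) :
    ∃ d : ℕ, ∀ ℓ : ℕ, ℓ.Prime → d < ℓ → ∀ (Ω : Type u) [Field Ω] (θ : Spec (CommRingCat.of Ω) ⟶ S),
      θ (IsLocalRing.closedPoint Ω) = t → ∀ x : Over.mk θ ⟶ G, x ^ ℓ = 1 → x ≫ u = 1 → x = 1 := by
  let N := pullback u η[H]
  let i : N ⟶ G := pullback.fst u η[H]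
  have sq : AlgGrp.IsKernel i u := by
    show IsPullback i (toUnit N) u η[H]
    rw [toUnit_unique (toUnit N) (pullback.snd u η[H])]
    exact IsPullback.of_hasPullback _ _
  let res := S.fromSpecResidueField t
  haveI : IsFinite ((Over.pullback res).obj N).hom := hiso.2 _ _ (isKernel_pullback res sq)
  obtain ⟨d, hd⟩ := exists_bound_points (K := S.residueField t) ((Over.pullback res).obj N).left
    ((Over.pullback res).obj N).hom
  refine ⟨d, fun ℓ hℓ hdℓ Ω _ θ hθ x hxℓ hxu => ?_⟩
  obtain ⟨a, ha⟩ := exists_residue_factor θ t hθ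
  obtain ⟨hfin, hcard⟩ := hd Ω a
  let K : Subgroup (Over.mk θ ⟶ G) :=
    MonoidHom.ker (MonoidHom.mk' (fun y : Over.mk θ ⟶ G => y ≫ u) fun y z => MonObj.mul_comp y z u)
  have hK : ∀ y : K, y.1 ≫ u = 1 := fun y => y.2
  let pts : K → {f : Spec (CommRingCat.of Ω) ⟶ ((Over.pullback res).obj N).left //
      f ≫ ((Over.pullback res).obj N).hom = a} := fun y =>
    ⟨pullback.lift (sq.lift y.1 (toUnit _) ((hK y).trans Hom.one_def)).left a (by rw [ha]; exact Over.w _),
      pullback.lift_snd _ _ _⟩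
  have hinj : Function.Injective pts := fun y z e => by
    have e' := congrArg (fun f => f.1 ≫ pullback.fst N.hom res) e
    simp only [pts, pullback.lift_fst] at e'
    refine Subtype.ext ?_
    rw [← sq.lift_fst y.1 (toUnit _) ((hK y).trans Hom.one_def), ← sq.lift_fst z.1 (toUnit _) ((hK z).trans Hom.one_def)]
    exact congrArg (· ≫ i) (Over.OverMorphism.ext e')
  haveI : Finite K := Finite.of_injective _ hinj
  have hle : Nat.card K ≤ d := (Nat.card_le_card_of_injective _ hinj).trans hcard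
  have h1 : orderOf (⟨x, hxu⟩ : K) ∣ ℓ := orderOf_dvd_of_pow_eq_one (Subtype.ext hxℓ)
  rcases (Nat.dvd_prime hℓ).1 h1 with h | h
  · exact congrArg Subtype.val (orderOf_eq_one_iff.1 h)
  · exfalso
    have h2 : orderOf (⟨x, hxu⟩ : K) ≤ Nat.card K := Nat.le_of_dvd Nat.card_pos (orderOf_dvd_natCard _)
    omega

/-- A point of the unit section with values in a field is the unit. -/
theorem eq_one_of_apply [IsSeparated G.hom] {Ω : Type u} [Field Ω] (θ : Spec (CommRingCat.of Ω) ⟶ S)
    (x : Over.mk θ ⟶ G) (h : x.left (IsLocalRing.closedPoint Ω) ∈ Set.range η[G].left) : x = 1 := by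
  haveI : IsClosedImmersion η[G].left := by
    haveI : IsClosedImmersion (η[G].left ≫ G.hom) := by rw [Over.w η[G]]; exact inferInstanceAs (IsClosedImmersion (𝟙 S))
    exact IsClosedImmersion.of_comp η[G].left G.hom
  haveI : Surjective (pullback.fst x.left η[G].left) := ⟨fun c => by
    rw [← Set.mem_range, Scheme.Pullback.range_fst, Set.mem_preimage,
      Subsingleton.elim (α := PrimeSpectrum Ω) c (IsLocalRing.closedPoint Ω)]
    exact h⟩
  haveI : IsClosedImmersion (pullback.fst x.left η[G].left) := inferInstance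
  haveI : IsReduced (Spec (CommRingCat.of Ω)) := inferInstance
  haveI : IsReduced (Over.mk θ).left := ‹IsReduced (Spec (CommRingCat.of Ω))›
  haveI := isIso_of_isClosedImmersion_of_surjective (pullback.fst x.left η[G].left)
  let w : (Over.mk θ).left ⟶ S := inv (pullback.fst x.left η[G].left) ≫ pullback.snd x.left η[G].left
  have hx : x.left = w ≫ η[G].left := by
    rw [Category.assoc, ← pullback.condition, IsIso.inv_hom_id_assoc]
  have hw : θ = w := by
    have h1 := Over.w x
    rw [hx, Category.assoc, Over.w η[G]] at h1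
    exact h1.symm.trans (Category.comp_id w)
  refine Over.OverMorphism.ext (hx.trans ?_)
  rw [← hw]
  rfl

variable [Flat G.hom] [LocallyOfFinitePresentation G.hom] [IsSeparated G.hom] [Smooth H.hom]

/-- The key specialisation: small torsion in the kernel over a point comes from a generization. -/
theorem eq_one_of_generization (ℓ : ℕ) (s t : S) (hts : t ⤳ s) (hℓ : (ℓ : S.residueField s) ≠ 0)
    (ht : ∀ (Ω : Type u) [Field Ω] (θ : Spec (CommRingCat.of Ω) ⟶ S),
      θ (IsLocalRing.closedPoint Ω) = t → ∀ x : Over.mk θ ⟶ G, x ^ ℓ = 1 → x ≫ u = 1 → x = 1)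
    {Ω : Type u} [Field Ω] (θ : Spec (CommRingCat.of Ω) ⟶ S) (hθ : θ (IsLocalRing.closedPoint Ω) = s)
    (x : Over.mk θ ⟶ G) (hxℓ : x ^ ℓ = 1) (hxu : x ≫ u = 1) : x = 1 := by
  refine eq_one_of_apply G θ x (by_contra fun hne => ?_)
  let c : G ⟶ G := (𝟙 G) ^ ℓ
  let M := pullback c η[G]
  let iM : M ⟶ G := pullback.fst c η[G]
  have sqM : IsPullback iM (toUnit M) c η[G] := by
    rw [toUnit_unique (toUnit M) (pullback.snd c η[G])]
    exact IsPullback.of_hasPullback _ _
  obtain ⟨lx, hlx⟩ : ∃ lx : Over.mk θ ⟶ M, lx ≫ iM = x :=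
    ⟨sqM.lift x (toUnit _) (by rw [MonObj.comp_pow, Category.comp_id, hxℓ, Hom.one_def]), sqM.lift_fst _ _ _⟩
  let p : M.left := lx.left (IsLocalRing.closedPoint Ω)
  have hps : M.hom p = s := by
    rw [← hθ]
    exact congr(($(Over.w lx)) (IsLocalRing.closedPoint Ω))
  have hg : G.hom (iM.left p) = s := by
    rw [← Scheme.Hom.comp_apply, Over.w iM]; exact hps
  -- the torsion is etale over the base near the point
  obtain ⟨U, hpU, hUet⟩ : Groth.L05.Point.Nhd @Etale M.hom p := by
    have sql := sqM.map (Over.forget S)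
    have h := Groth.L05.Point.nhd_of_isPullback (P := @Etale) sql p
      (nhd_etale_pow_comm G ℓ (iM.left p) (by rw [hg]; exact hℓ))
    rwa [show ((Over.forget S).map (toUnit M)) = M.hom from (Category.comp_id _).symm.trans (Over.w (toUnit M))] at h
  -- the two morphisms to be compared
  let a : M ⟶ H := iM ≫ u
  let b : M ⟶ H := 1
  obtain ⟨W, hW, hWet⟩ := nhd_etale_pow_unit H ℓ s hℓ
  have hb : b.left p = η[H].left s := by
    show ((1 : M ⟶ H)).left p = _
    rw [Hom.one_def, Over.comp_left, Scheme.Hom.comp_apply]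
    exact congrArg η[H].left ((congr(($((Category.comp_id _).symm.trans (Over.w (toUnit M)))) p)).trans hps)
  have hq : lx ≫ a = lx ≫ b := by
    show lx ≫ iM ≫ u = lx ≫ 1
    rw [reassoc_of% hlx, hxu, MonObj.comp_one]
  have hql : lx.left ≫ a.left = lx.left ≫ b.left := congr(($hq).left)
  have ha : a.left p = η[H].left s := by
    rw [← hb]
    exact congr(($hql) (IsLocalRing.closedPoint Ω))
  have hpow : a.left ≫ ((𝟙 H : H ⟶ H) ^ ℓ).left = b.left ≫ ((𝟙 H : H ⟶ H) ^ ℓ).left := by
    rw [← Over.comp_left, ← Over.comp_left]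
    congr 1
    show (iM ≫ u) ≫ _ = (1 : M ⟶ H) ≫ _
    rw [MonObj.comp_pow, MonObj.comp_pow, Category.comp_id, Category.comp_id, one_pow, ← MonObj.pow_comp]
    have : iM ^ ℓ = 1 := by
      rw [Hom.one_def, ← sqM.w, MonObj.comp_pow, Category.comp_id]
    rw [this, MonObj.one_comp]
  let V : M.left.Opens := U ⊓ (a.left ⁻¹ᵁ W ⊓ b.left ⁻¹ᵁ W)
  have hpV : p ∈ V := ⟨hpU, show a.left p ∈ W by rw [ha]; exact hW, show b.left p ∈ W by rw [hb]; exact hW⟩
  let a' : V.toScheme ⟶ W.toScheme := IsOpenImmersion.lift W.ι (V.ι ≫ a.left) (by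
    rintro _ ⟨z, rfl⟩
    rw [Scheme.Opens.range_ι, Scheme.Hom.comp_apply]
    exact z.2.2.1)
  let b' : V.toScheme ⟶ W.toScheme := IsOpenImmersion.lift W.ι (V.ι ≫ b.left) (by
    rintro _ ⟨z, rfl⟩
    rw [Scheme.Opens.range_ι, Scheme.Hom.comp_apply]
    exact z.2.2.2)
  have ha' : a' ≫ W.ι = V.ι ≫ a.left := IsOpenImmersion.lift_fac _ _ _
  have hb' : b' ≫ W.ι = V.ι ≫ b.left := IsOpenImmersion.lift_fac _ _ _
  let f : W.toScheme ⟶ H.left := W.ι ≫ ((𝟙 H : H ⟶ H) ^ ℓ).left
  haveI : Etale f := hWet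
  haveI : IsOpenImmersion (pullback.diagonal f) := inferInstance
  let P : V.toScheme ⟶ pullback f f := pullback.lift a' b' (by
    rw [← Category.assoc, ← Category.assoc, ha', hb', Category.assoc, Category.assoc, hpow])
  let E : V.toScheme.Opens := P ⁻¹ᵁ (pullback.diagonal f).opensRange
  have hE : E.ι ≫ V.ι ≫ a.left = E.ι ≫ V.ι ≫ b.left := by
    let l : E.toScheme ⟶ W.toScheme := IsOpenImmersion.lift (pullback.diagonal f) (E.ι ≫ P) (by
      rintro _ ⟨z, rfl⟩
      exact z.2)
    have hl : l ≫ pullback.diagonal f = E.ι ≫ P := IsOpenImmersion.lift_fac _ _ _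
    have h1 := congrArg (· ≫ pullback.fst f f) hl
    have h2 := congrArg (· ≫ pullback.snd f f) hl
    simp only [Category.assoc, pullback.diagonal_fst, pullback.diagonal_snd, Category.comp_id, P,
      pullback.lift_fst, pullback.lift_snd] at h1 h2
    rw [← ha', ← hb', ← Category.assoc, ← Category.assoc, ← h1, ← h2]
  let q : (Over.mk θ).left ⟶ V.toScheme := IsOpenImmersion.lift V.ι lx.left (by
    rintro _ ⟨z, rfl⟩
    rw [Scheme.Opens.range_ι, Subsingleton.elim (α := PrimeSpectrum Ω) z (IsLocalRing.closedPoint Ω)]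
    exact hpV)
  have hqV : q ≫ V.ι = lx.left := IsOpenImmersion.lift_fac _ _ _
  have hqE : q (IsLocalRing.closedPoint Ω) ∈ E := by
    have e : q ≫ a' = q ≫ b' := by
      rw [← cancel_mono W.ι, Category.assoc, Category.assoc, ha', hb', reassoc_of% hqV, reassoc_of% hqV, hql]
    have h : q ≫ P = (q ≫ a') ≫ pullback.diagonal f := by
      apply pullback.hom_ext
      · rw [Category.assoc, Category.assoc, pullback.diagonal_fst, Category.comp_id]
        exact congrArg (q ≫ ·) (pullback.lift_fst _ _ _)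
      · rw [Category.assoc, Category.assoc, pullback.diagonal_snd, Category.comp_id, e]
        exact congrArg (q ≫ ·) (pullback.lift_snd _ _ _)
    exact ⟨(q ≫ a') (IsLocalRing.closedPoint Ω), (congr(($h) (IsLocalRing.closedPoint Ω))).symm⟩
  haveI : IsClosedImmersion η[G].left := by
    haveI : IsClosedImmersion (η[G].left ≫ G.hom) := by rw [Over.w η[G]]; exact inferInstanceAs (IsClosedImmersion (𝟙 S))
    exact IsClosedImmersion.of_comp η[G].left G.hom
  let O : M.left.Opens := (V.ι ''ᵁ E) ⊓ iM.left ⁻¹ᵁ ⟨(Set.range η[G].left)ᶜ,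
    η[G].left.isClosedEmbedding.isClosed_range.isOpen_compl⟩
  have hpO : p ∈ O := by
    refine ⟨⟨q (IsLocalRing.closedPoint Ω), hqE, congr(($hqV) (IsLocalRing.closedPoint Ω))⟩, ?_⟩
    show iM.left p ∉ Set.range η[G].left
    rw [show iM.left p = x.left (IsLocalRing.closedPoint Ω) from congr(($hlx).left (IsLocalRing.closedPoint Ω))]
    exact hne
  have hOet : Etale (O.ι ≫ M.hom) := by
    have hle : O ≤ U := fun z hz => by
      obtain ⟨y, -, rfl⟩ := hz.1
      exact y.2.1
    rw [← Scheme.homOfLE_ι M.left hle, Category.assoc]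
    haveI : Etale (U.ι ≫ M.hom) := hUet
    infer_instance
  haveI := hOet
  obtain ⟨p', hp'⟩ : t ∈ Set.range (O.ι ≫ M.hom) :=
    hts.mem_open (O.ι ≫ M.hom).isOpenMap.isOpen_range ⟨⟨p, hpO⟩, (Scheme.Hom.comp_apply _ _ _).trans hps⟩
  let z : M.left := O.ι p'
  have hz : z ∈ O := p'.2
  have hzt : M.hom z = t := (Scheme.Hom.comp_apply _ _ _).symm.trans hp'
  let Ω' := AlgebraicClosure (M.left.residueField z)
  let pz : Spec (CommRingCat.of Ω') ⟶ M.left :=
    Spec.map (CommRingCat.ofHom (algebraMap (M.left.residueField z) Ω')) ≫ M.left.fromSpecResidueField z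
  have hpz : ∀ y, pz y = z := fun y =>
    (Scheme.Hom.comp_apply _ _ _).trans (Scheme.fromSpecResidueField_apply _ _)
  let y : Over.mk (pz ≫ M.hom) ⟶ M := Over.homMk pz rfl
  have h1 : (y ≫ iM) ^ ℓ = 1 := by
    rw [← MonObj.comp_pow, show iM ^ ℓ = 1 by rw [Hom.one_def, ← sqM.w, MonObj.comp_pow, Category.comp_id],
      MonObj.comp_one]
  have h2 : (y ≫ iM) ≫ u = 1 := by
    refine (Category.assoc y iM u).trans ?_
    refine Eq.trans (b := y ≫ b) (Over.OverMorphism.ext ?_) (MonObj.comp_one _)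
    show pz ≫ a.left = pz ≫ b.left
    have hzE : z ∈ V.ι ''ᵁ E := hz.1
    let r : Spec (CommRingCat.of Ω') ⟶ E.toScheme := IsOpenImmersion.lift (E.ι ≫ V.ι) pz (by
      rintro _ ⟨w, rfl⟩
      rw [hpz]
      obtain ⟨e, he, he'⟩ := hzE
      exact ⟨⟨e, he⟩, (Scheme.Hom.comp_apply _ _ _).trans he'⟩)
    have hr : r ≫ E.ι ≫ V.ι = pz := IsOpenImmersion.lift_fac _ _ _
    calc pz ≫ a.left = (r ≫ E.ι ≫ V.ι) ≫ a.left := congrArg (· ≫ a.left) hr.symm
      _ = r ≫ E.ι ≫ V.ι ≫ a.left := by simp only [Category.assoc]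
      _ = r ≫ E.ι ≫ V.ι ≫ b.left := congrArg (r ≫ ·) hE
      _ = (r ≫ E.ι ≫ V.ι) ≫ b.left := by simp only [Category.assoc]
      _ = pz ≫ b.left := congrArg (· ≫ b.left) hr
  have h3 := ht Ω' (pz ≫ M.hom) (by rw [Scheme.Hom.comp_apply, hpz, hzt]) (y ≫ iM) h1 h2
  refine hz.2 ⟨(pz ≫ M.hom) (IsLocalRing.closedPoint Ω'), ?_⟩
  have h4 := congr(($h3).left (IsLocalRing.closedPoint Ω'))
  rw [show ((y ≫ iM).left) (IsLocalRing.closedPoint Ω') = iM.left z from
    (Scheme.Hom.comp_apply pz iM.left _).trans (congrArg iM.left (hpz _))] at h4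
  rw [h4, Hom.one_def]
  rfl

end Groth.L16.UnipRank
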