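import Groth.Agent.Lead.PowEtale
import Groth.Agent.L08.HomLocus
import Groth.Agent.L15.TorsLift.Basic
import Groth.Agent.L08.Borel.BaseChange

/-!
Multiplication by an integer is etale near the unit, and everywhere for commutative groups,
also over a base, where the integer is invertible.
-/

set_option autoImplicit false
set_option backward.isDefEq.respectTransparency.types false
set_option linter.style.haveILetI false

universe u

open CategoryTheory CategoryTheory.Limits MonoidalCategory CartesianMonoidalCategory MonObj AlgebraicGeometry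

noncomputable section

namespace Groth.L16.UnipRank

/-- Multiplication by an invertible integer on a commutative group over a field is etale. -/
theorem etale_pow_field {k : Type u} [Field k] (G : Over (Spec (CommRingCat.of k))) [GrpObj G] [IsCommMonObj G]
    [LocallyOfFiniteType G.hom] (n : ℕ) (hn : (n : k) ≠ 0) : Etale ((𝟙 G : G ⟶ G) ^ n).left := by
  obtain ⟨U, hU, hE⟩ := Groth.Lead.PowEtale.etale_nhd G n hn
  haveI := Groth.L15.TorsLift.isMonHom_pow G n
  exact Groth.L08.HomLocus.of_open (P := @Etale) ((𝟙 G : G ⟶ G) ^ n) U ⟨_, hU⟩ hE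

variable {S : Scheme.{u}} (G : Over S) [GrpObj G]

theorem map_pow_id {S' : Scheme.{u}} (t : S' ⟶ S) (n : ℕ) :
    (Over.pullback t).map ((𝟙 G : G ⟶ G) ^ n) = (𝟙 (Red.bc t G)) ^ n := by
  show (Over.pullback t).homMonoidHom ((𝟙 G : G ⟶ G) ^ n) = _
  rw [map_pow]
  exact congrArg (· ^ n) ((Over.pullback t).map_id G)

/-- The unit of a base change lies over the unit. -/
theorem fst_unit {S' : Scheme.{u}} (t : S' ⟶ S) (c : S') :
    pullback.fst G.hom t ((η[Red.bc t G]).left c) = η[G].left (t c) := by
  have h : Groth.L25.NilAction.toBase t (1 : 𝟙_ (Over S') ⟶ Red.bc t G) = 1 := Groth.L25.NilAction.toBase_one t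
  rw [← Category.id_comp η[Red.bc t G], toUnit_unique (𝟙 _) (toUnit (𝟙_ (Over S'))), ← Hom.one_def]
  exact congr(($h).left c)

variable [Flat G.hom] [LocallyOfFinitePresentation G.hom]

/-- Etaleness of a power map is seen on the fibre. -/
theorem nhd_etale_pow (n : ℕ) (x : G.left) (x' : (Red.bc (S.fromSpecResidueField (G.hom x)) G).left)
    (hx' : pullback.fst G.hom (S.fromSpecResidueField (G.hom x)) x' = x)
    (h : Groth.L05.Point.Nhd @Etale ((𝟙 (Red.bc (S.fromSpecResidueField (G.hom x)) G)) ^ n).left x') :
    Groth.L05.Point.Nhd @Etale ((𝟙 G : G ⟶ G) ^ n).left x := by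
  let u : G ⟶ G := (𝟙 G) ^ n
  let s := G.hom x
  have hsq := Groth.L08.IsogenyFibres.isPullback_fibre G G u s
  have hfo := Groth.L05.Point.isPullback_fiberMapOver u.left G.hom G.hom (Over.w u) s
  let e := hfo.isoIsPullback _ _ hsq
  have he : e.hom ≫ ((Over.pullback (S.fromSpecResidueField s)).map u).left =
      CohIII.fiberMapOver u.left G.hom G.hom (Over.w u) s := hfo.isoIsPullback_hom_snd _ _ hsq
  have he' : e.hom ≫ pullback.fst G.hom (S.fromSpecResidueField s) = G.hom.fiberι s :=
    hfo.isoIsPullback_hom_fst _ _ hsq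
  have hm : ((Over.pullback (S.fromSpecResidueField s)).map u).left =
      ((𝟙 (Red.bc (S.fromSpecResidueField s) G)) ^ n).left := congrArg (fun m : Red.bc (S.fromSpecResidueField s) G ⟶ Red.bc (S.fromSpecResidueField s) G => m.left)
      (map_pow_id G (S.fromSpecResidueField s) n)
  rw [← hm] at h
  refine (Groth.L05.Point.nhd_etale_iff_fiberMapOver u.left G.hom G.hom (Over.w u) x (Flat.stalkMap _ x)
    (G.hom.asFiber x) (G.hom.fiberι_asFiber x)).2 ?_
  haveI : IsIso e.hom := e.isIso_hom
  have hq : IsPullback e.hom (CohIII.fiberMapOver u.left G.hom G.hom (Over.w u) s)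
      ((Over.pullback (S.fromSpecResidueField s)).map u).left
      (𝟙 ((Over.pullback (S.fromSpecResidueField s)).obj G).left) :=
    @IsPullback.of_horiz_isIso _ _ _ _ _ _ _ _ _ _ ‹IsIso e.hom› (IsIso.id _) ⟨he.trans (Category.comp_id _).symm⟩
  refine Groth.L05.Point.nhd_of_isPullback hq (G.hom.asFiber x) ?_
  have : e.hom (G.hom.asFiber x) = x' := by
    haveI : Mono (S.fromSpecResidueField s) := inferInstance
    haveI : IsPreimmersion (pullback.fst G.hom (S.fromSpecResidueField s)) :=
      MorphismProperty.pullback_fst _ _ inferInstance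
    refine (pullback.fst G.hom (S.fromSpecResidueField s)).isEmbedding.injective ?_
    rw [← Scheme.Hom.comp_apply, he', Scheme.Hom.fiberι_asFiber]
    exact hx'.symm
  rw [this]
  exact h

/-- Multiplication by an integer invertible at a point is etale at the unit over it. -/
theorem nhd_etale_pow_unit (n : ℕ) (s : S) (hn : (n : S.residueField s) ≠ 0) :
    Groth.L05.Point.Nhd @Etale ((𝟙 G : G ⟶ G) ^ n).left (η[G].left s) := by
  obtain ⟨x, rfl⟩ : ∃ x, η[G].left s = x := ⟨_, rfl⟩
  have hs : G.hom (η[G].left s) = s := congr(($(Over.w η[G])) s)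
  have hn' : (n : S.residueField (G.hom (η[G].left s))) ≠ 0 := by rw [hs]; exact hn
  let G' : Over (Spec (CommRingCat.of (S.residueField (G.hom (η[G].left s))))) :=
    Red.bc (S.fromSpecResidueField (G.hom (η[G].left s))) G
  letI : GrpObj G' := inferInstanceAs (GrpObj (Red.bc (S.fromSpecResidueField (G.hom (η[G].left s))) G))
  haveI : LocallyOfFiniteType G'.hom := inferInstanceAs (LocallyOfFiniteType (pullback.snd G.hom _))
  obtain ⟨U, hU, hE⟩ := Groth.Lead.PowEtale.etale_nhd G' n hn'
  refine nhd_etale_pow G n _ (Groth.Lead.PowEtale.unitPt G') ?_ ⟨U, hU, hE⟩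
  exact (fst_unit G _ _).trans (congrArg η[G].left
    ((Scheme.fromSpecResidueField_apply _ _).trans hs))

/-- Multiplication by an integer invertible at a point is etale over it, for commutative groups. -/
theorem nhd_etale_pow_comm [IsCommMonObj G] (n : ℕ) (x : G.left) (hn : (n : S.residueField (G.hom x)) ≠ 0) :
    Groth.L05.Point.Nhd @Etale ((𝟙 G : G ⟶ G) ^ n).left x := by
  let G' : Over (Spec (CommRingCat.of (S.residueField (G.hom x)))) := Red.bc (S.fromSpecResidueField (G.hom x)) G
  letI : GrpObj G' := inferInstanceAs (GrpObj (Red.bc (S.fromSpecResidueField (G.hom x)) G))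
  haveI : IsCommMonObj G' := inferInstanceAs (IsCommMonObj ((Over.pullback (S.fromSpecResidueField (G.hom x))).obj G))
  haveI : LocallyOfFiniteType G'.hom := inferInstanceAs (LocallyOfFiniteType (pullback.snd G.hom _))
  obtain ⟨x', hx'⟩ : x ∈ Set.range (pullback.fst G.hom (S.fromSpecResidueField (G.hom x))) := by
    rw [Scheme.Pullback.range_fst, Set.mem_preimage, Scheme.range_fromSpecResidueField]
    exact rfl
  exact nhd_etale_pow G n x x' hx' (Groth.L05.Point.nhd_top (etale_pow_field G' n hn) x')

end Groth.L16.UnipRank
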